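import Groth.Agent.Lib.Helper1.CohLoc.IsLoc
import Groth.Agent.Lib.Helper1.Cech.Localizing

/-!
# Restriction of Čech complexes to a smaller family, and localization (helper1)

For families of opens `W i ≤ U i` of a space `X` and a presheaf of abelian groups `P` the
restriction chain map `r : Č(U, P) ⟶ Č(W, P)`.  If a ring element `a` acts on `P`, bijectively on
all `P(W_x)`, and all `P(U_x) → P(W_x)` are "localizations at `a`" (`IsLocalizingAt`), then `r`
is degreewise an `IsLoc` (for a finite index set).
-/

set_option autoImplicit false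
universe u v
open CategoryTheory Limits Opposite TopologicalSpace

namespace Groth.Agent.Lib.Helper1.CohLoc

open Groth.Agent.Lib.Helper1.Cech

variable {X : TopCat.{u}} {ι : Type u} (U W : ι → Opens X) (hWU : ∀ i, W i ≤ U i)
  (P : (Opens X)ᵒᵖ ⥤ AddCommGrpCat.{u})

include hWU in
theorem inter_mono {q : ℕ} (x : Fin (q + 1) → ι) : inter W x ≤ inter U x := by
  rw [inter_eq_iInf, inter_eq_iInf]
  exact iInf_mono fun a => hWU (x a)

/-- the restriction map in degree `q`. -/
noncomputable def rf (q : ℕ) : (K U P).X q ⟶ (K W P).X q :=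
  Limits.Pi.map (fun x : Fin (q + 1) → ι => P.map (homOfLE (inter_mono U W hWU x)).op)

theorem comp_rf (q : ℕ) (x : Fin (q + 1) → ι) (s : (K U P).X q) :
    comp W P q x (rf U W hWU P q s) =
      P.map (homOfLE (inter_mono U W hWU x)).op (comp U P q x s) := by
  unfold comp rf
  erw [← AddCommGrpCat.comp_apply, Pi.map_π]
  rfl

theorem map_map_apply' {W' W V : Opens X} (a : W' ⟶ W) (b : W ⟶ V) (t : P.obj (op V)) :
    P.map a.op (P.map b.op t) = P.map (a ≫ b).op t := by
  rw [op_comp, P.map_comp]
  rfl

theorem rf_d (q : ℕ) (s : (K U P).X q) :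
    (K W P).d q (q + 1) (rf U W hWU P q s) =
      rf U W hWU P (q + 1) ((K U P).d q (q + 1) s) := by
  refine ext (U := W) (P := P) (q := q + 1) (fun x => ?_)
  rw [comp_d, comp_rf, comp_d, map_sum]
  refine Finset.sum_congr rfl (fun k _ => ?_)
  rw [map_zsmul, comp_rf]
  congr 1
  rw [map_map_apply', map_map_apply']
  rfl

/-- the restriction chain map. -/
noncomputable def r : K U P ⟶ K W P where
  f q := rf U W hWU P q
  comm' i j hij := by
    change i + 1 = j at hij
    subst hij
    ext s
    change (K W P).d i (i + 1) (rf U W hWU P i s) = rf U W hWU P (i + 1) ((K U P).d i (i + 1) s)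
    exact rf_d U W hWU P i s

/-- restriction commutes with morphisms of presheaves. -/
theorem r_naturality {Q : (Opens X)ᵒᵖ ⥤ AddCommGrpCat.{u}} (β : P ⟶ Q) :
    (cechComplexFunctor U).map β ≫ r U W hWU Q = r U W hWU P ≫ (cechComplexFunctor W).map β := by
  ext q s
  change rf U W hWU Q q (((cechComplexFunctor U).map β).f q s) =
    ((cechComplexFunctor W).map β).f q (rf U W hWU P q s)
  refine ext (U := W) (P := Q) (q := q) (fun x => ?_)
  rw [comp_rf, Cech.comp_map, Cech.comp_map, comp_rf]
  exact (ConcreteCategory.congr_hom (β.naturality (homOfLE (inter_mono U W hWU x)).op)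
    (comp U P q x s)).symm

variable {A : Type v} [CommRing A] (α : Action A P) (a : A)

variable {P} in
theorem onK_iter (n q : ℕ) (s : (K U P).X q) : (α.onK U a q)^[n] s = α.onK U (a ^ n) q s := by
  induction n generalizing s with
  | zero => rw [pow_zero, α.onK_one]; rfl
  | succ n ih => rw [Function.iterate_succ_apply', ih, pow_succ', α.onK_mul]

variable {P} in
theorem act_pow_of_le {N N' : ℕ} (hN : N ≤ N') (V : (Opens X)ᵒᵖ) (m : P.obj V) :
    (α.act (a ^ N')).app V m = (α.act (a ^ (N' - N))).app V ((α.act (a ^ N)).app V m) := by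
  rw [← act_pow_add, Nat.sub_add_cancel hN]

variable {P} in
/-- **The restriction map of Čech complexes is degreewise a localization.** -/
theorem isLoc_rf [Finite ι]
    (hloc : ∀ (q : ℕ) (x : Fin (q + 1) → ι), IsLocalizingAt α a (inter_mono U W hWU x))
    (hbij : ∀ (q : ℕ) (x : Fin (q + 1) → ι),
      Function.Bijective ((α.act a).app (op (inter W x))))
    (q : ℕ) : IsLoc (α.onK U a q) (α.onK W a q) (rf U W hWU P q).hom := by
  refine ⟨fun s => ?_, onK_bijective α a hbij q, fun b => ?_, fun s hs => ?_⟩
  · refine ext (U := W) (P := P) (q := q) (fun x => ?_)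
    change comp W P q x (rf U W hWU P q (α.onK U a q s)) =
      comp W P q x (α.onK W a q (rf U W hWU P q s))
    rw [comp_rf, α.comp_onK, α.comp_onK, comp_rf, α.act_naturality]
  · obtain ⟨N, hN⟩ := exists_uniform
      (fun (x : Fin (q + 1) → ι) (N : ℕ) => ∃ t : P.obj (op (inter U x)),
        P.map (homOfLE (inter_mono U W hWU x)).op t = (α.act (a ^ N)).app _ (comp W P q x b))
      (by
        rintro x N N' hNN' ⟨t, ht⟩
        refine ⟨(α.act (a ^ (N' - N))).app _ t, ?_⟩
        rw [← α.act_naturality, ht, ← act_pow_of_le α a hNN'])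
      (fun x => by
        obtain ⟨N, t, ht⟩ := (hloc q x).surj (comp W P q x b)
        exact ⟨N, t, ht⟩)
    choose t ht using hN
    obtain ⟨s, hs⟩ := exists_mk (U := U) (P := P) t
    refine ⟨N, s, ?_⟩
    rw [onK_iter]
    refine ext (U := W) (P := P) (q := q) (fun x => ?_)
    change comp W P q x (rf U W hWU P q s) = _
    rw [comp_rf, hs, ht, α.comp_onK]
  · have h0 : ∀ x : Fin (q + 1) → ι,
        P.map (homOfLE (inter_mono U W hWU x)).op (comp U P q x s) = 0 := by
      intro x
      rw [← comp_rf U W hWU P q x s]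
      have : rf U W hWU P q s = 0 := hs
      rw [this, map_zero]
    obtain ⟨N, hN⟩ := exists_uniform
      (fun (x : Fin (q + 1) → ι) (N : ℕ) => (α.act (a ^ N)).app _ (comp U P q x s) = 0)
      (by
        intro x N N' hNN' hx
        rw [act_pow_of_le α a hNN', hx, map_zero])
      (fun x => (hloc q x).inj _ (h0 x))
    refine ⟨N, ?_⟩
    rw [onK_iter]
    refine ext (U := U) (P := P) (q := q) (fun x => ?_)
    rw [α.comp_onK, hN, map_zero]

end Groth.Agent.Lib.Helper1.CohLoc
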