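import Groth.Agent.Lib.Helper1.CohLoc.IsLoc
import Groth.Agent.Lib.Helper17.AbHomology

/-!
# Homology commutes with elementwise localization (helper1)

If a morphism of cochain complexes of abelian groups `ρ : K ⟶ L`, equivariant for endomorphisms
`φK`, `φL`, is degreewise a localization (`IsLoc`), then so is the map induced on homology.
-/

set_option autoImplicit false
universe u
open CategoryTheory CategoryTheory.Limits

namespace Groth.Agent.Lib.Helper1.CohLoc

open Groth.Agent.Lib.Helper17.AbHomology HomologicalComplex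

variable {K L : HomologicalComplex AddCommGrpCat.{u} (ComplexShape.up ℕ)}

theorem homologyMap_π (g : K ⟶ L) (j : ℕ) (z : K.cycles j) :
    (homologyMap g j).hom (K.homologyπ j z) = L.homologyπ j ((cyclesMap g j).hom z) := by
  change (K.homologyπ j ≫ homologyMap g j) z = _
  rw [homologyπ_naturality]
  rfl

theorem iCycles_cyclesMap (g : K ⟶ L) (j : ℕ) (z : K.cycles j) :
    L.iCycles j ((cyclesMap g j).hom z) = (g.f j).hom (K.iCycles j z) := by
  change (cyclesMap g j ≫ L.iCycles j) z = _
  rw [cyclesMap_i]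
  rfl

theorem f_d (g : K ⟶ L) (i j : ℕ) (x : K.X i) :
    (g.f j).hom (K.d i j x) = L.d i j ((g.f i).hom x) := by
  have := ConcreteCategory.congr_hom (g.comm i j) x
  exact this.symm

theorem f_iter_d (g : K ⟶ K) (i j n : ℕ) (x : K.X i) :
    (g.f j).hom^[n] (K.d i j x) = K.d i j ((g.f i).hom^[n] x) :=
  ((Function.Semiconj.iterate_right (f := K.d i j) (ga := (g.f i).hom) (gb := (g.f j).hom)
    (fun x => (f_d g i j x).symm) n).eq x).symm

theorem homologyMap_iter_π (g : K ⟶ K) (j n : ℕ) (z : K.cycles j) :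
    (homologyMap g j).hom^[n] (K.homologyπ j z) = K.homologyπ j ((cyclesMap g j).hom^[n] z) :=
  ((Function.Semiconj.iterate_right (f := K.homologyπ j) (ga := (cyclesMap g j).hom)
    (gb := (homologyMap g j).hom) (fun z => (homologyMap_π g j z).symm) n).eq z).symm

theorem iCycles_cyclesMap_iter (g : K ⟶ K) (j n : ℕ) (z : K.cycles j) :
    K.iCycles j ((cyclesMap g j).hom^[n] z) = (g.f j).hom^[n] (K.iCycles j z) :=
  (Function.Semiconj.iterate_right (f := K.iCycles j) (ga := (cyclesMap g j).hom)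
    (gb := (g.f j).hom) (fun z => iCycles_cyclesMap g j z) n).eq z

/-- **Homology commutes with localization.** -/
theorem isLoc_homology (ρ : K ⟶ L) (φK : K ⟶ K) (φL : L ⟶ L) (hcomm : φK ≫ ρ = ρ ≫ φL)
    (h : ∀ j, IsLoc (φK.f j).hom (φL.f j).hom (ρ.f j).hom) (j : ℕ) :
    IsLoc (homologyMap φK j).hom (homologyMap φL j).hom (homologyMap ρ j).hom := by
  obtain ⟨i, hi⟩ : ∃ i, (ComplexShape.up ℕ).prev j = i := ⟨_, rfl⟩
  refine ⟨fun x => ?_, ?_, fun y => ?_, fun x hx => ?_⟩
  · change (homologyMap φK j ≫ homologyMap ρ j) x = (homologyMap ρ j ≫ homologyMap φL j) x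
    rw [← homologyMap_comp, ← homologyMap_comp, hcomm]
  · have h1 : ∀ k, IsIso (φL.f k) := fun k =>
      (ConcreteCategory.isIso_iff_bijective (φL.f k)).2 (h k).bij
    have h2 : IsIso φL := HomologicalComplex.Hom.isIso_of_components φL
    have h3 : IsIso (homologyMap φL j) :=
      inferInstanceAs (IsIso ((homologyFunctor _ _ j).map φL))
    exact ConcreteCategory.bijective_of_isIso (homologyMap φL j)
  · obtain ⟨z, rfl⟩ := homologyπ_surjective L j y
    obtain ⟨n, a, ha⟩ := (h j).surj (L.iCycles j z)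
    -- `d a` maps to zero
    have h0 : (ρ.f (j + 1)).hom (K.d j (j + 1) a) = 0 := by
      rw [f_d]
      have : (ρ.f j).hom a = (φL.f j).hom^[n] (L.iCycles j z) := ha
      rw [this, ← f_iter_d, d_iCycles, iterate_map_zero]
    obtain ⟨m, hm⟩ := (h (j + 1)).ker _ h0
    rw [f_iter_d] at hm
    obtain ⟨za, hza⟩ := exists_cycle K j _ hm
    refine ⟨m + n, K.homologyπ j za, ?_⟩
    rw [homologyMap_π, homologyMap_iter_π]
    congr 1
    apply iCycles_injective L j
    rw [iCycles_cyclesMap, hza, iCycles_cyclesMap_iter, (h j).comm_iter, ha,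
      ← Function.iterate_add_apply]
  · obtain ⟨z, rfl⟩ := homologyπ_surjective K j x
    rw [homologyMap_π] at hx
    obtain ⟨b, hb⟩ := (homologyπ_eq_zero_iff L i j hi _).1 hx
    rw [iCycles_cyclesMap] at hb
    obtain ⟨n, a, ha⟩ := (h i).surj b
    have h0 : (ρ.f j).hom ((φK.f j).hom^[n] (K.iCycles j z) - K.d i j a) = 0 := by
      rw [map_sub, (h j).comm_iter, ← hb, f_d]
      have : (ρ.f i).hom a = (φL.f i).hom^[n] b := ha
      rw [this, ← f_iter_d, sub_self]
    obtain ⟨m, hm⟩ := (h j).ker _ h0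
    rw [iterate_map_sub, sub_eq_zero, ← Function.iterate_add_apply, f_iter_d] at hm
    refine ⟨m + n, ?_⟩
    rw [homologyMap_iter_π, homologyπ_eq_zero_iff K i j hi]
    exact ⟨_, by rw [iCycles_cyclesMap_iter, hm]⟩

end Groth.Agent.Lib.Helper1.CohLoc
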