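import Mathlib

/-!
# Elementwise localization of abelian groups with an endomorphism (helper1)

`IsLoc φA φB ρ`: the additive map `ρ : A →+ B` intertwines the endomorphisms `φA`, `φB`, the
endomorphism `φB` is bijective, every element of `B` is in the image of `ρ` after applying a power
of `φB`, and the kernel of `ρ` is `φA`-power torsion.  If `φA` is multiplication by an element `f`
of a commutative ring acting on `A`, then `B` is (additively) the localized module `A_f`
(`IsLoc.nonempty_addEquiv`).
-/

set_option autoImplicit false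

namespace Groth.Agent.Lib.Helper1.CohLoc

/-- `ρ : A → B` is a "localization at `φ`". -/
structure IsLoc {A B : Type*} [AddCommGroup A] [AddCommGroup B] (φA : A →+ A) (φB : B →+ B)
    (ρ : A →+ B) : Prop where
  comm : ∀ a, ρ (φA a) = φB (ρ a)
  bij : Function.Bijective φB
  surj : ∀ b, ∃ (n : ℕ) (a : A), ρ a = φB^[n] b
  ker : ∀ a, ρ a = 0 → ∃ n : ℕ, φA^[n] a = 0

namespace IsLoc

variable {A B : Type*} [AddCommGroup A] [AddCommGroup B] {φA : A →+ A} {φB : B →+ B}
  {ρ : A →+ B}

theorem comm_iter (h : IsLoc φA φB ρ) (n : ℕ) (a : A) : ρ (φA^[n] a) = φB^[n] (ρ a) :=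
  (Function.Semiconj.iterate_right (f := ρ) (ga := φA) (gb := φB) h.comm n).eq a

theorem iter_injective (h : IsLoc φA φB ρ) (n : ℕ) : Function.Injective φB^[n] :=
  h.bij.1.iterate n

theorem iter_surjective (h : IsLoc φA φB ρ) (n : ℕ) : Function.Surjective φB^[n] :=
  h.bij.2.iterate n

/-- transport along additive equivalences. -/
theorem congr {A' B' : Type*} [AddCommGroup A'] [AddCommGroup B'] (h : IsLoc φA φB ρ)
    (eA : A ≃+ A') (eB : B ≃+ B') (φA' : A' →+ A') (hφ : ∀ a, eA (φA a) = φA' (eA a)) :
    IsLoc φA' ((eB.toAddMonoidHom.comp φB).comp eB.symm.toAddMonoidHom)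
      ((eB.toAddMonoidHom.comp ρ).comp eA.symm.toAddMonoidHom) := by
  have hiterA : ∀ (n : ℕ) (a : A), eA (φA^[n] a) = φA'^[n] (eA a) := fun n a =>
    (Function.Semiconj.iterate_right (f := eA) (ga := φA) (gb := φA') hφ n).eq a
  have hiterB : ∀ (n : ℕ) (b : B),
      eB (φB^[n] b) =
        (⇑((eB.toAddMonoidHom.comp φB).comp eB.symm.toAddMonoidHom))^[n] (eB b) := fun n b =>
    (Function.Semiconj.iterate_right (f := eB) (ga := φB)
      (gb := ⇑((eB.toAddMonoidHom.comp φB).comp eB.symm.toAddMonoidHom))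
      (fun b => by simp) n).eq b
  refine ⟨fun a' => ?_, ?_, fun b' => ?_, fun a' ha' => ?_⟩
  · obtain ⟨a, rfl⟩ := eA.surjective a'
    simp [← hφ, h.comm]
  · have : ⇑((eB.toAddMonoidHom.comp φB).comp eB.symm.toAddMonoidHom) = eB ∘ φB ∘ eB.symm := rfl
    rw [this]
    exact eB.bijective.comp (h.bij.comp eB.symm.bijective)
  · obtain ⟨b, rfl⟩ := eB.surjective b'
    obtain ⟨n, a, ha⟩ := h.surj b
    refine ⟨n, eA a, ?_⟩
    rw [← hiterB, ← ha]
    simp
  · obtain ⟨a, rfl⟩ := eA.surjective a'
    have : ρ a = 0 := by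
      have := ha'
      simpa using this
    obtain ⟨n, hn⟩ := h.ker a this
    exact ⟨n, by rw [← hiterA, hn, map_zero]⟩

section Localized

variable {R : Type*} [CommRing R] [Module R A] (f : R)

theorem iter_eq_pow_smul (hφ : ∀ a, φA a = f • a) (n : ℕ) (a : A) : φA^[n] a = f ^ n • a := by
  induction n generalizing a with
  | zero => simp
  | succ n ih => rw [Function.iterate_succ_apply', ih, hφ, pow_succ', mul_smul]

/-- `f ^ n` as an element of `Submonoid.powers f`. -/
abbrev pw (n : ℕ) : Submonoid.powers f := ⟨f ^ n, n, rfl⟩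

/-- **`B` is the localized module.** -/
theorem nonempty_addEquiv (h : IsLoc φA φB ρ) (hφ : ∀ a, φA a = f • a) :
    Nonempty (B ≃+ LocalizedModule (Submonoid.powers f) A) := by
  classical
  have hρpow : ∀ (n : ℕ) (a : A), ρ (f ^ n • a) = φB^[n] (ρ a) := fun n a => by
    rw [← iter_eq_pow_smul f hφ, h.comm_iter]
  choose N a ha using h.surj
  let g : B → LocalizedModule (Submonoid.powers f) A := fun b =>
    LocalizedModule.mk (a b) (pw f (N b))
  have key : ∀ (b : B) (n : ℕ) (x : A), ρ x = φB^[n] b →
      g b = LocalizedModule.mk x (pw f n) := by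
    intro b n x hx
    have h0 : ρ (f ^ n • a b - f ^ N b • x) = 0 := by
      rw [map_sub, hρpow, hρpow, ha, hx, ← Function.iterate_add_apply,
        ← Function.iterate_add_apply, add_comm, sub_self]
    obtain ⟨k, hk⟩ := h.ker _ h0
    rw [iter_eq_pow_smul f hφ, smul_sub, sub_eq_zero] at hk
    change LocalizedModule.mk (a b) (pw f (N b)) = _
    rw [LocalizedModule.mk_eq]
    refine ⟨pw f k, ?_⟩
    change f ^ k • f ^ n • a b = f ^ k • f ^ N b • x
    exact hk
  have hadd : ∀ b b', g (b + b') = g b + g b' := by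
    intro b b'
    have h1 : ρ (f ^ N b' • a b + f ^ N b • a b') = φB^[N b + N b'] (b + b') := by
      rw [map_add, hρpow, hρpow, ha, ha, ← Function.iterate_add_apply,
        ← Function.iterate_add_apply, iterate_map_add, add_comm (N b') (N b)]
    rw [key (b + b') _ _ h1]
    change _ = LocalizedModule.mk (a b) (pw f (N b)) +
      LocalizedModule.mk (a b') (pw f (N b'))
    rw [LocalizedModule.mk_add_mk]
    have e : pw f (N b + N b') = pw f (N b) * pw f (N b') := Subtype.ext (pow_add f _ _)
    rw [e]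
    rfl
  refine ⟨AddEquiv.ofBijective (AddMonoidHom.mk' g hadd) ⟨?_, ?_⟩⟩
  · rw [injective_iff_map_eq_zero]
    intro b hb
    change LocalizedModule.mk (a b) (pw f (N b)) = 0 at hb
    rw [← LocalizedModule.zero_mk (1 : Submonoid.powers f), LocalizedModule.mk_eq] at hb
    obtain ⟨⟨_, k, rfl⟩, hk⟩ := hb
    rw [smul_zero, smul_zero, one_smul] at hk
    have : φB^[k + N b] b = 0 := by
      rw [Function.iterate_add_apply, ← ha, ← hρpow]
      change ρ (f ^ k • a b) = 0
      have hk' : f ^ k • a b = 0 := hk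
      rw [hk', map_zero]
    apply h.iter_injective (k + N b)
    rw [this, iterate_map_zero]
  · intro x
    induction x using LocalizedModule.induction_on with
    | h m s =>
      obtain ⟨_, n, rfl⟩ := s
      obtain ⟨b, hb⟩ := h.iter_surjective n (ρ m)
      refine ⟨b, ?_⟩
      change g b = _
      exact key b n m hb.symm

end Localized

end IsLoc

end Groth.Agent.Lib.Helper1.CohLoc
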