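import Groth.Agent.Lib.Helper1.CohLoc.Cech
import Groth.Agent.Lib.Helper1.CohLoc.Homology
import Groth.Agent.Lib.Helper1.Cech.Affine
import Groth.Agent.Lib.Helper17.CechHHLin
import Groth.Agent.Lib.Helper93.CechTransfer
import Groth.Prelude.Def_ega3

/-!
# Cohomology of `X_f` is the localization of the cohomology of `X` (helper1)

For a quasi-compact separated scheme `X`, a global function `f` and a quasi-coherent module `M`:
`H^q(X_f, M) ≃+ H^q(X, M)_f` (EGA III 1.4.5 / Hartshorne III Ex 3.x), through Čech cohomology of a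
finite affine cover `U` of `X` and of the cover `X_f ∩ U` of `X_f`.
-/

set_option autoImplicit false
universe u
open CategoryTheory Limits Opposite TopologicalSpace AlgebraicGeometry

namespace Groth.Agent.Lib.Helper1.CohLoc

open Groth.Agent.Lib.Helper1.Cech Groth.Agent.Lib.Helper17.CechHHLin
  Groth.Agent.Lib.Helper17.LerayNat Groth.Agent.Lib.Helper93.CechTransfer

variable {X : Scheme.{u}} (M : X.Modules) (f : Γ(X, ⊤))

/-- `M(V) → M(V ⊓ X_f)` is a localization at `f` for `V` affine. -/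
theorem isLocalizingAt_of_isAffineOpen [M.IsQuasicoherent] {V V' : X.Opens} (hV : IsAffineOpen V)
    (hV' : V' = V ⊓ X.basicOpen f) (h : V' ≤ V) :
    IsLocalizingAt (X := X.toTopCat) (globalAction M) f h := by
  obtain ⟨r, hr⟩ : ∃ r : Γ(X, V), r = X.presheaf.map (homOfLE (le_top : V ≤ ⊤)).op f := ⟨_, rfl⟩
  have e : X.basicOpen r = V' := by rw [hV', hr, Scheme.basicOpen_res]
  subst e
  have hrf : X.presheaf.map (homOfLE (X.basicOpen_le r)).op r =
      X.presheaf.map (homOfLE (le_top : X.basicOpen r ≤ ⊤)).op f := by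
    rw [hr, ← ConcreteCategory.comp_apply, ← Functor.map_comp]
    rfl
  constructor
  · intro u
    obtain ⟨n, t, ht⟩ := Groth.Agent.Lib.Helper45.exists_restrict_eq_pow_smul hV M r u
    refine ⟨n, t, ?_⟩
    rw [globalAction_apply, map_pow, ← hrf]
    exact ht
  · intro t ht
    obtain ⟨n, hn⟩ := Groth.Agent.Lib.Helper45.exists_pow_smul_eq_zero_of_restrict_eq_zero
      hV M r t ht
    refine ⟨n, ?_⟩
    rw [globalAction_apply, map_pow, ← hr]
    exact hn

theorem isAffineOpen_inf_of_isSeparated [X.IsSeparated] {V V' : X.Opens} (hV : IsAffineOpen V)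
    (hV' : IsAffineOpen V') : IsAffineOpen (V ⊓ V') := by
  haveI : IsAffine V := hV
  have : IsAffineHom (V.ι ≫ terminal.from X) := by
    rw [HasAffineProperty.iff_of_isAffine (P := @IsAffineHom)]
    infer_instance
  have : IsAffineHom V.ι := IsAffineHom.of_comp V.ι (terminal.from X)
  have h1 : IsAffineOpen (V.ι ⁻¹ᵁ V') := hV'.preimage V.ι
  rw [← V.ι.isAffineOpen_iff_of_isOpenImmersion, V.ι.image_preimage_eq_opensRange_inf,
    Scheme.Opens.opensRange_ι] at h1
  exact h1

theorem isAffineOpen_iInf_fin [X.IsSeparated] : ∀ (p : ℕ) (V : Fin (p + 1) → X.Opens),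
    (∀ k, IsAffineOpen (V k)) → IsAffineOpen (⨅ k, V k)
  | 0, V, hV => by
    have : (⨅ k, V k) = V 0 :=
      le_antisymm (iInf_le _ 0) (le_iInf fun k => by
        obtain rfl : k = 0 := Subsingleton.elim (α := Fin 1) k 0
        exact le_rfl)
    rw [this]
    exact hV 0
  | p + 1, V, hV => by
    have : (⨅ k, V k) = V 0 ⊓ ⨅ k : Fin (p + 1), V k.succ := by
      apply le_antisymm
      · exact le_inf (iInf_le _ 0) (le_iInf fun k => iInf_le _ k.succ)
      · refine le_iInf fun k => ?_
        induction k using Fin.cases with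
        | zero => exact inf_le_left
        | succ b => exact inf_le_right.trans (iInf_le (fun k : Fin (p + 1) => V k.succ) b)
    rw [this]
    exact isAffineOpen_inf_of_isSeparated (hV 0) (isAffineOpen_iInf_fin p _ fun k => hV k.succ)

section Open

variable (D : X.Opens) {ι : Type u} (U : ι → X.Opens)

/-- the cover of the open subscheme `D` induced by `U`. -/
abbrev VV : ι → D.toScheme.Opens := fun i => D.ι ⁻¹ᵁ (U i)

/-- the family `D ⊓ U i` of opens of `X`. -/
abbrev WW : ι → X.Opens := fun i => D ⊓ U i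

lemma imgFam_VV : imgFam (VV D U) D.ι.opensFunctor = WW D U := by
  funext i
  change D.ι ''ᵁ (D.ι ⁻¹ᵁ (U i)) = D ⊓ U i
  rw [Scheme.Hom.image_preimage_eq_opensRange_inf, Scheme.Opens.opensRange_ι]

lemma iSup_VV (hU : iSup U = ⊤) : iSup (VV D U) = ⊤ := by
  ext z
  simp only [Opens.coe_iSup, Set.mem_iUnion, SetLike.mem_coe, Opens.coe_top, Set.mem_univ, iff_true]
  have hz : z.1 ∈ iSup U := by rw [hU]; trivial
  rw [Opens.mem_iSup] at hz
  obtain ⟨i, hi⟩ := hz
  exact ⟨i, hi⟩

lemma hΦ' (q : ℕ) (x : Fin (q + 1) → ι) :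
    inter (imgFam (VV D U) D.ι.opensFunctor) x ≤
      D.ι.opensFunctor.obj (inter (VV D U) x) := by
  rw [inter_eq_iInf, inter_eq_iInf, imgFam_VV]
  intro y hy
  have hy' : y ∈ ((⨅ a, WW D U (x a) : X.Opens) : Set X) := hy
  rw [Opens.coe_iInf, Set.mem_iInter] at hy'
  have hyD : y ∈ D := (hy' 0).1
  let z : ↥D.toScheme := ⟨y, hyD⟩
  have key : z ∈ ((⨅ a, VV D U (x a) : D.toScheme.Opens) : Set ↥D.toScheme) := by
    rw [Opens.coe_iInf, Set.mem_iInter]
    intro a
    exact (hy' a).2
  exact ⟨z, key, rfl⟩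

lemma iInf_VV {p : ℕ} (a : Fin (p + 1) → ι) :
    (⨅ k, VV D U (a k)) = D.ι ⁻¹ᵁ (⨅ k, U (a k)) := by
  ext z
  simp only [Opens.coe_iInf, Set.mem_iInter, SetLike.mem_coe, Scheme.Hom.coe_preimage,
    Set.mem_preimage]

lemma isAffineOpen_iInf_VV (hD : ∀ V : X.Opens, IsAffineOpen V → IsAffineOpen (D ⊓ V))
    (haff : ∀ (p : ℕ) (a : Fin (p + 1) → ι), IsAffineOpen (⨅ k, U (a k)))
    (p : ℕ) (a : Fin (p + 1) → ι) : IsAffineOpen (⨅ k, VV D U (a k)) := by
  rw [iInf_VV, ← D.ι.isAffineOpen_iff_of_isOpenImmersion,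
    Scheme.Hom.image_preimage_eq_opensRange_inf, Scheme.Opens.opensRange_ι]
  exact hD _ (haff p a)

lemma iInf_WW {p : ℕ} (a : Fin (p + 1) → ι) :
    (⨅ k, WW D U (a k)) = (⨅ k, U (a k)) ⊓ D := by
  apply le_antisymm
  · exact le_inf (iInf_mono fun k => inf_le_right) ((iInf_le _ 0).trans inf_le_left)
  · exact le_iInf fun k => le_inf inf_le_right (inf_le_left.trans (iInf_le _ k))

end Open

/-- **`H^q(X_f, M)` is the localization of `H^q(X, M)` at `f`.** -/
theorem nonempty_HHon_addEquiv_localizedModule [CompactSpace X] [X.IsSeparated]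
    [M.IsQuasicoherent] (q : ℕ) :
    Nonempty (Coh.HHon X M (X.basicOpen f) q ≃+
      LocalizedModule (Submonoid.powers f) (Coh.HH X M q)) := by
  obtain ⟨s, hsfin, hs⟩ := (isCompact_iff_finite_and_eq_biUnion_affineOpens
    (U := (⊤ : X.Opens))).1 (by simpa using isCompact_univ)
  let ι : Type u := s
  haveI : Finite ι := hsfin.to_subtype
  let U : ι → X.Opens := fun i => i.1.1
  have hU : iSup U = ⊤ := by
    rw [hs, iSup_subtype']
  have haff : ∀ (p : ℕ) (a : Fin (p + 1) → ι), IsAffineOpen (⨅ k, U (a k)) :=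
    fun p a => isAffineOpen_iInf_fin p _ (fun k => (a k).1.2)
  obtain ⟨D, hDdef⟩ : ∃ D : X.Opens, D = X.basicOpen f := ⟨_, rfl⟩
  have hD : ∀ V : X.Opens, IsAffineOpen V → IsAffineOpen (D ⊓ V) := fun V hV => by
    have := hV.basicOpen (X.presheaf.map (homOfLE (le_top : V ≤ ⊤)).op f)
    rw [Scheme.basicOpen_res, inf_comm, ← hDdef] at this
    exact this
  have hWU : ∀ i, WW D U i ≤ U i := fun i => inf_le_right
  have hloc : ∀ (q : ℕ) (x : Fin (q + 1) → ι),
      IsLocalizingAt (X := X.toTopCat) (globalAction M) f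
        (inter_mono (X := X.toTopCat) U (WW D U) hWU x) := fun q x =>
    isLocalizingAt_of_isAffineOpen M f
      (by rw [inter_eq_iInf (X := X.toTopCat)]; exact haff q x)
      (by rw [inter_eq_iInf (X := X.toTopCat), inter_eq_iInf (X := X.toTopCat), ← hDdef]
          exact iInf_WW D U x) _
  have hbij : ∀ (q : ℕ) (x : Fin (q + 1) → ι),
      Function.Bijective (((globalAction M).act f).app
        (op (inter (C := Opens X.toTopCat) (WW D U) x))) := fun q x =>
    globalAction_bijective M f _ (by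
      rw [inter_eq_iInf (X := X.toTopCat), ← hDdef]
      exact (iInf_le _ 0).trans inf_le_left)
  have hterm := isLoc_rf (X := X.toTopCat) U (WW D U) hWU (globalAction M) f hloc hbij
  have hH := isLoc_homology (r (X := X.toTopCat) U (WW D U) hWU M.presheaf)
    ((cechComplexFunctor (C := Opens X.toTopCat) U).map ((globalAction M).act f))
    ((cechComplexFunctor (C := Opens X.toTopCat) (WW D U)).map ((globalAction M).act f))
    (r_naturality (X := X.toTopCat) U (WW D U) hWU M.presheaf ((globalAction M).act f))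
    (fun j => hterm j) q
  -- the `X` side
  let eA := cechToHH M U hU haff q
  have heA : ∀ c, eA ((HomologicalComplex.homologyMap
      ((cechComplexFunctor (C := Opens X.toTopCat) U).map ((globalAction M).act f)) q).hom c) =
      DistribSMul.toAddMonoidHom (Coh.HH X M q) f (eA c) := fun c =>
    cechToHH_smul M U hU haff q f c
  obtain ⟨e3⟩ := (hH.congr eA (AddEquiv.refl _) (DistribSMul.toAddMonoidHom (Coh.HH X M q) f)
    heA).nonempty_addEquiv f (fun a => rfl)
  -- the `D` side
  let e1 := cechToHH (M.restrict D.ι) (VV D U) (iSup_VV D U hU)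
    (isAffineOpen_iInf_VV D U hD haff) q
  let e2 := (homologyIso (X := X.toTopCat) (Y := D.toScheme.toTopCat) (VV D U)
    D.ι.opensFunctor M.presheaf (hΦ' D U) q).addCommGroupIsoToAddEquiv
  rw [imgFam_VV] at e2
  subst hDdef
  exact ⟨(e1.symm.trans e2.symm).trans e3⟩

end Groth.Agent.Lib.Helper1.CohLoc
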